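import Groth.Agent.CompleteDvr.Exists

/-!
A complete discrete valuation ring dominating a given one, with prescribed residue field and unramified.
-/

set_option autoImplicit false

universe u

open IsLocalRing

namespace Groth.Agent.PseudoComplete

/-- A complete discrete valuation ring dominating a given one with prescribed residue field. -/
theorem exists_complete_dvr_unramified (R : Type u) [CommRing R] [IsDomain R] [IsDiscreteValuationRing R]
    (K : Type u) [Field K] [Algebra (ResidueField R) K] :
    ∃ (A : Type u) (_ : CommRing A) (_ : IsDomain A) (_ : IsDiscreteValuationRing A) (ι : R →+* A)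
      (_ : IsLocalHom ι) (_ : IsAdicComplete (maximalIdeal A) A) (ε : ResidueField A ≃+* K),
      Function.Injective ι ∧ (maximalIdeal R).map ι = maximalIdeal A ∧ ∀ r, ε (residue A (ι r)) = algebraMap (ResidueField R) K (residue R r) := by
  obtain ⟨B, _, _, hBn, hBl, hBlh, hBflat, e, he⟩ := Groth.Agent.S2363.result (A := R) K
  obtain ⟨ϖ, hϖ⟩ := IsDiscreteValuationRing.exists_irreducible R
  let b : B := algebraMap R B ϖ
  have hb : maximalIdeal B = Ideal.span {b} := by
    have hmax : ((maximalIdeal R).map (algebraMap R B)).IsMaximal :=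
      Ideal.Quotient.maximal_of_isField _ (e.toMulEquiv.isField (Field.toIsField _))
    rw [← IsLocalRing.eq_maximalIdeal hmax, hϖ.maximalIdeal_eq, Ideal.map_span, Set.image_singleton]
  have hmap : (maximalIdeal R).map (algebraMap R B) = maximalIdeal B := by
    rw [hb, hϖ.maximalIdeal_eq, Ideal.map_span, Set.image_singleton]
  let A := AdicCompletion (maximalIdeal B) B
  have hfg : (maximalIdeal B).FG := IsNoetherian.noetherian _
  have : IsNoetherianRing (B ⧸ maximalIdeal B) := inferInstance
  have hAn : IsNoetherianRing A := Groth.Agent.ResExt.isNoetherianRing_adicCompletion _ hfg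
  have hmA : maximalIdeal A = (maximalIdeal B).map (algebraMap B A) := AdicCompletion.maximalIdeal_eq_map
  have hcomp : IsAdicComplete (maximalIdeal A) A := by
    have : IsAdicComplete (maximalIdeal B) A := AdicCompletion.isAdicComplete hfg
    rw [hmA]
    exact (IsAdicComplete.map_algebraMap_iff _ _).2 this
  let a : A := algebraMap B A b
  have ha : maximalIdeal A = Ideal.span {a} := by
    rw [hmA]
    exact (congrArg (Ideal.map (algebraMap B A)) hb).trans (by rw [Ideal.map_span, Set.image_singleton])
  have hregB : IsSMulRegular B b := (IsRegular.of_ne_zero hϖ.ne_zero).isSMulRegular.of_flat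
  have : Module.Flat B A := AdicCompletion.flat_of_isNoetherian _
  obtain ⟨hAd, hAdvr⟩ := Groth.Agent.GeomPts.isDomain_and_isDiscreteValuationRing ha hregB.of_flat
  let ι : R →+* A := (algebraMap B A).comp (algebraMap R B)
  have hloc : IsLocalHom (algebraMap B A) := ⟨fun x hx ↦ by
    by_contra hu
    have : algebraMap B A x ∈ maximalIdeal A := hmA ▸ Ideal.mem_map_of_mem _ ((mem_maximalIdeal x).mpr hu)
    exact this hx⟩
  have hιl : IsLocalHom ι := RingHom.isLocalHom_comp _ _
  have hker : RingHom.ker (AdicCompletion.evalOneₐ (maximalIdeal B)).toRingHom = maximalIdeal A := by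
    rw [AdicCompletion.ker_evalOneₐ_eq_map _ hfg, hmA]
  let ε : ResidueField A ≃+* K :=
    ((Ideal.quotEquivOfEq hker.symm).trans
      (RingHom.quotientKerEquivOfSurjective (AdicCompletion.evalOneₐ_surjective (maximalIdeal B)))).trans
      ((Ideal.quotEquivOfEq hmap.symm).trans e)
  refine ⟨A, inferInstance, hAd, hAdvr, ι, hιl, hcomp, ε, ?_, by rw [← Ideal.map_map, hmap, hmA], fun r ↦ ?_⟩
  · refine (injective_iff_map_eq_zero _).mpr fun r hr ↦ ?_
    by_contra hne
    obtain ⟨n, u, rfl⟩ := IsDiscreteValuationRing.eq_unit_mul_pow_irreducible hne hϖ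
    have ha0 : a ≠ 0 := fun h ↦ IsDiscreteValuationRing.not_a_field A (by rw [ha, h, Ideal.span_singleton_zero])
    rw [map_mul, map_pow] at hr
    exact (mul_ne_zero (u.isUnit.map ι).ne_zero (pow_ne_zero n ha0)) hr
  · rw [← he r]
    show e (Ideal.quotEquivOfEq hmap.symm ((AdicCompletion.evalOneₐ (maximalIdeal B))
      (algebraMap B A (algebraMap R B r)))) = _
    rw [AlgHom.commutes]
    rfl

end Groth.Agent.PseudoComplete
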